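/-
Sylow 2-subgroups of a hyperbolic orthogonal group over the field with two elements.

* `exists_fixed_coset` : a 2-group fixes a coset modulo an invariant subspace
* `exists_invariant_submax` : a 2-group stabilises a totally singular subspace of dimension `m - 1`
* `mem_sylow_of_fix` : a Sylow 2-subgroup stabilising such `W` contains the elements fixing `W` pointwise
* `sylow_inf_conj_ne_bot` : two Sylow 2-subgroups meet non-trivially
-/
import Cfsg.Agent.Lib.Orth.Geo
import Mathlib.GroupTheory.PGroup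

set_option autoImplicit false
set_option linter.unusedSectionVars false

namespace Cfsg.Agent.OrthPlusSylow

open Cfsg Matrix Module Cfsg.Agent.Orth
open scoped Pointwise
open QuadraticMap (polar)

variable {ι : Type} [Fintype ι] [DecidableEq ι] {F : Type*} [Field F] [Fintype F]
variable {Q : QuadraticForm F (ι → F)}

/-- Totally singular. -/
def TS (Q : QuadraticForm F (ι → F)) (W : Submodule F (ι → F)) : Prop := ∀ x ∈ W, Q x = 0

/-- Invariant under a subgroup. -/
def Inv (H : Subgroup (IsoGrp Q)) (W : Submodule F (ι → F)) : Prop := ∀ g ∈ H, ∀ x ∈ W, ap g x ∈ W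

theorem TS.polar {W : Submodule F (ι → F)} (hW : TS Q W) {x y : ι → F} (hx : x ∈ W) (hy : y ∈ W) :
    polar ⇑Q x y = 0 := by
  have h := hW _ (add_mem hx hy)
  rw [Q_add, hW x hx, hW y hy, zero_add, zero_add] at h
  exact h

theorem two_eq_zero (hF : Fintype.card F = 2) : (2 : F) = 0 := by
  have h := FiniteField.cast_card_eq_zero F
  rw [hF] at h
  exact_mod_cast h

theorem zero_or_one (hF : Fintype.card F = 2) (c : F) : c = 0 ∨ c = 1 := by
  classical
  by_contra h
  push Not at h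
  have h3 : ({0, 1, c} : Finset F).card = 3 := Finset.card_eq_three.2 ⟨0, 1, c, zero_ne_one, h.1.symm, h.2.symm, rfl⟩
  have := Finset.card_le_univ ({0, 1, c} : Finset F)
  omega

theorem add_self_vec (hF : Fintype.card F = 2) (x : ι → F) : x + x = 0 := by
  funext i
  rw [Pi.add_apply, ← two_mul, two_eq_zero hF, zero_mul, Pi.zero_apply]

theorem sub_eq_add_vec (hF : Fintype.card F = 2) (x y : ι → F) : x - y = x + y := by
  rw [sub_eq_add_neg, ← eq_neg_of_add_eq_zero_left (add_self_vec hF y)]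

theorem pl_self_zero (hF : Fintype.card F = 2) (x : ι → F) : polar ⇑Q x x = 0 := by
  rw [pl_self, two_eq_zero hF, zero_mul]

theorem inv_perp {H : Subgroup (IsoGrp Q)} {W : Submodule F (ι → F)} (h : Inv H W) : Inv H (perpSub Q W) :=
  fun g hg x hx => mem_perpSub.2 fun w hw => by
    rw [← ap_ap_inv g w, polar_ap]
    exact mem_perpSub.1 hx _ (h _ (inv_mem hg) w hw)

/-- A 2-group fixes a non-trivial coset modulo an invariant subspace inside a bigger one. -/
theorem exists_fixed_coset (hF : Fintype.card F = 2) {H : Subgroup (IsoGrp Q)} (hH : IsPGroup 2 H)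
    {A B : Submodule F (ι → F)} (hA : Inv H A) (hB : Inv H B) (hAB : A < B) :
    ∃ u ∈ B, u ∉ A ∧ ∀ g ∈ H, ap g u - u ∈ A := by
  classical
  have : Fact (Nat.Prime 2) := ⟨Nat.prime_two⟩
  let X := {c : (ι → F) ⧸ A // ∃ b ∈ B, A.mkQ b = c}
  have hle : ∀ g : H, A ≤ A.comap (ap (g : IsoGrp Q)) := fun g x hx => hA g g.2 x hx
  let _ : MulAction H X :=
    { smul := fun g c => ⟨A.mapQ A (ap (g : IsoGrp Q)) (hle g) c.1, by
        obtain ⟨b, hb, hbc⟩ := c.2
        exact ⟨ap (g : IsoGrp Q) b, hB g g.2 b hb, by rw [← hbc]; rfl⟩⟩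
      one_smul := fun c => Subtype.ext (by
        obtain ⟨c, b, hb, rfl⟩ := c
        show A.mkQ (ap ((1 : H) : IsoGrp Q) b) = A.mkQ b
        rw [Subgroup.coe_one, ap_one])
      mul_smul := fun g h c => Subtype.ext (by
        obtain ⟨c, b, hb, rfl⟩ := c
        show A.mkQ (ap ((g * h : H) : IsoGrp Q) b) = A.mkQ (ap (g : IsoGrp Q) (ap (h : IsoGrp Q) b))
        rw [Subgroup.coe_mul, ap_mul]) }
  obtain ⟨b₀, hb₀, hb₀A⟩ := SetLike.exists_of_lt hAB
  -- the translations by a fixed vector pair up the cosets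
  let t : Equiv.Perm X :=
    Function.Involutive.toPerm (fun c => ⟨c.1 + A.mkQ b₀, by
        obtain ⟨b, hb, hbc⟩ := c.2
        exact ⟨b + b₀, add_mem hb hb₀, by rw [map_add, hbc]⟩⟩) fun c => Subtype.ext (by
      show c.1 + A.mkQ b₀ + A.mkQ b₀ = c.1
      rw [add_assoc, ← map_add, add_self_vec hF, map_zero, add_zero])
  have ht2 : t ^ 2 ^ 1 = 1 := by
    rw [pow_one, pow_two]; exact Equiv.ext fun c => t.left_inv c
  have hdvd : 2 ∣ Nat.card X := by
    rw [Nat.card_eq_fintype_card]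
    by_contra hodd
    obtain ⟨c, hc⟩ := Equiv.Perm.exists_fixed_point_of_prime (p := 2) hodd ht2
    have h1 : c.1 + A.mkQ b₀ = c.1 := congrArg Subtype.val hc
    rw [add_eq_left] at h1
    exact hb₀A ((Submodule.Quotient.mk_eq_zero A).1 h1)
  have hzero : (⟨0, 0, zero_mem B, map_zero _⟩ : X) ∈ MulAction.fixedPoints H X := fun g =>
    Subtype.ext (map_zero _)
  obtain ⟨⟨c, b, hb, rfl⟩, hfix, hne⟩ :=
    hH.exists_fixed_point_of_prime_dvd_card_of_fixed_point X hdvd hzero
  refine ⟨b, hb, fun hbA => hne (Subtype.ext ((Submodule.Quotient.mk_eq_zero A).2 hbA).symm), fun g hg => ?_⟩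
  have h := congrArg Subtype.val (hfix ⟨g, hg⟩)
  exact (Submodule.Quotient.eq A).1 h

variable {m : ℕ}

theorem finrank_perp (hQ : Q.polarBilin.Nondegenerate) (hι : Fintype.card ι = 2 * m) (W : Submodule F (ι → F)) :
    finrank F (perpSub Q W) + finrank F W = 2 * m := by
  have := Submodule.finrank_le W
  rw [finrank_space] at this
  rw [finrank_perpSub hQ, hι]; omega

theorem le_perp {W : Submodule F (ι → F)} (hW : TS Q W) : W ≤ perpSub Q W := fun _ hx =>
  mem_perpSub.2 fun _ hw => hW.polar hw hx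

theorem ts_sup_span {W : Submodule F (ι → F)} (hW : TS Q W) {u : ι → F} (hu : u ∈ perpSub Q W) (hQu : Q u = 0) :
    TS Q (W ⊔ F ∙ u) := by
  intro z hz
  obtain ⟨w, hw, y, hy, rfl⟩ := Submodule.mem_sup.1 hz
  obtain ⟨c, rfl⟩ := Submodule.mem_span_singleton.1 hy
  rw [Q_add, hW w hw, Q_smul, hQu, pl_smul_right, mem_perpSub.1 hu w hw]
  ring

/-- A singular vector of `W^⊥` outside `W`. -/
theorem exists_singular_perp (hQ : Q.polarBilin.Nondegenerate) (hι : Fintype.card ι = 2 * m)
    {X : Submodule F (ι → F)} (hX : TS Q X) (hXm : finrank F X = m) {W : Submodule F (ι → F)}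
    (hWm : finrank F W < m) : ∃ u ∈ perpSub Q W, u ∉ W ∧ Q u = 0 := by
  by_contra hno
  push Not at hno
  have h1 : perpSub Q W ⊓ X ≤ W ⊓ X := fun x hx => by
    obtain ⟨hx1, hx2⟩ := Submodule.mem_inf.1 hx
    refine Submodule.mem_inf.2 ⟨?_, hx2⟩
    by_contra hxW
    exact hno x hx1 hxW (hX x hx2)
  have h2 : perpSub Q W ⊔ X ≤ perpSub Q (W ⊓ X) := sup_le
    (fun x hx => mem_perpSub.2 fun w hw => mem_perpSub.1 hx w (Submodule.mem_inf.1 hw).1)
    (fun x hx => mem_perpSub.2 fun w hw => hX.polar (Submodule.mem_inf.1 hw).2 hx)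
  have h3 := Submodule.finrank_sup_add_finrank_inf_eq (perpSub Q W) X
  have h4 := Submodule.finrank_mono h1
  have h5 := Submodule.finrank_mono h2
  have h6 := finrank_perp hQ hι W
  have h7 := finrank_perp hQ hι (W ⊓ X)
  omega

theorem finrank_sup_span {W : Submodule F (ι → F)} {u : ι → F} (hu : u ∉ W) :
    finrank F ↥(W ⊔ F ∙ u) = finrank F W + 1 := by
  have hd : Disjoint W (F ∙ u) := (Submodule.disjoint_span_singleton' (fun h : u = 0 => hu (h ▸ zero_mem W))).2 hu
  have h := Submodule.finrank_sup_add_finrank_inf_eq W (F ∙ u)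
  rw [hd.eq_bot, finrank_bot, add_zero, finrank_span_singleton (fun h : u = 0 => hu (h ▸ zero_mem W))] at h
  exact h

theorem inv_sup_span {H : Subgroup (IsoGrp Q)} {A : Submodule F (ι → F)} (hA : Inv H A) {u : ι → F}
    (hu : ∀ g ∈ H, ap g u - u ∈ A) : Inv H (A ⊔ F ∙ u) := by
  intro g hg z hz
  obtain ⟨w, hw, y, hy, rfl⟩ := Submodule.mem_sup.1 hz
  obtain ⟨c, rfl⟩ := Submodule.mem_span_singleton.1 hy
  rw [map_add, map_smul]
  have e : ap g w + c • ap g u = (ap g w + c • (ap g u - u)) + c • u := by rw [smul_sub]; abel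
  rw [e]
  exact add_mem (Submodule.mem_sup_left (add_mem (hA g hg w hw) (Submodule.smul_mem _ _ (hu g hg))))
    (Submodule.mem_sup_right (Submodule.smul_mem _ _ (Submodule.mem_span_singleton_self u)))

/-- A 2-group extends an invariant totally singular subspace. -/
theorem exists_extend (hF : Fintype.card F = 2) (hQ : Q.polarBilin.Nondegenerate)
    (hι : Fintype.card ι = 2 * m) {H : Subgroup (IsoGrp Q)} (hH : IsPGroup 2 H) {W : Submodule F (ι → F)}
    (hW : TS Q W) (hI : Inv H W) (hWm : finrank F W + 2 ≤ m) :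
    ∃ W' : Submodule F (ι → F), TS Q W' ∧ Inv H W' ∧ finrank F W' = finrank F W + 1 := by
  have hperp := finrank_perp hQ hι W
  have hlt : W < perpSub Q W := lt_of_le_of_ne (le_perp hW) fun e => by
    rw [← e] at hperp; omega
  obtain ⟨x, hx, hxW, hxf⟩ := exists_fixed_coset hF hH hI (inv_perp hI) hlt
  by_cases hQx : Q x = 0
  · exact ⟨_, ts_sup_span hW hx hQx, inv_sup_span hI hxf, finrank_sup_span hxW⟩
  have hQx1 : Q x = 1 := (zero_or_one hF _).resolve_left hQx
  set A := W ⊔ F ∙ x with hAdef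
  have hAI : Inv H A := inv_sup_span hI hxf
  have hAperp : A ≤ perpSub Q A := by
    intro z hz
    refine mem_perpSub.2 fun z' hz' => ?_
    obtain ⟨w, hw, y, hy, rfl⟩ := Submodule.mem_sup.1 hz
    obtain ⟨c, rfl⟩ := Submodule.mem_span_singleton.1 hy
    obtain ⟨w', hw', y', hy', rfl⟩ := Submodule.mem_sup.1 hz'
    obtain ⟨c', rfl⟩ := Submodule.mem_span_singleton.1 hy'
    rw [pl_add_left, pl_add_right, pl_add_right, pl_smul_left, pl_smul_left, pl_smul_right, pl_smul_right,
      hW.polar hw' hw, mem_perpSub.1 hx w' hw', pl_self_zero hF, pl_comm Q x w, mem_perpSub.1 hx w hw]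
    ring
  have hA1 : finrank F A = finrank F W + 1 := finrank_sup_span hxW
  have hAlt : A < perpSub Q A := lt_of_le_of_ne hAperp fun e => by
    have := finrank_perp hQ hι A; rw [← e] at this; omega
  obtain ⟨u, hu, huA, huf⟩ := exists_fixed_coset hF hH hAI (inv_perp hAI) hAlt
  have hxA : x ∈ A := Submodule.mem_sup_right (Submodule.mem_span_singleton_self x)
  have hux : polar ⇑Q u x = 0 := by rw [pl_comm]; exact mem_perpSub.1 hu x hxA
  obtain ⟨v, hv, hvA, hvf, hQv⟩ : ∃ v ∈ perpSub Q A, v ∉ A ∧ (∀ g ∈ H, ap g v - v ∈ A) ∧ Q v = 0 := by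
    by_cases hQu : Q u = 0
    · exact ⟨u, hu, huA, huf, hQu⟩
    refine ⟨u + x, add_mem hu (hAperp hxA), fun h => huA ?_, fun g hg => ?_, ?_⟩
    · simpa using Submodule.sub_mem _ h hxA
    · rw [map_add, add_sub_add_comm]
      exact add_mem (huf g hg) (Submodule.mem_sup_left (hxf g hg))
    · rw [Q_add, (zero_or_one hF _).resolve_left hQu, hQx1, hux, add_zero, one_add_one_eq_two, two_eq_zero hF]
  have hvW : v ∈ perpSub Q W := mem_perpSub.2 fun w hw => mem_perpSub.1 hv w (Submodule.mem_sup_left hw)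
  have hxv : polar ⇑Q x v = 0 := mem_perpSub.1 hv x hxA
  refine ⟨_, ts_sup_span hW hvW hQv, inv_sup_span hI fun g hg => ?_,
    finrank_sup_span fun h => hvA (Submodule.mem_sup_left h)⟩
  obtain ⟨w, hw, y, hy, e⟩ := Submodule.mem_sup.1 (hvf g hg)
  obtain ⟨c, rfl⟩ := Submodule.mem_span_singleton.1 hy
  have hgv : ap g v = v + (w + c • x) := by rw [e, add_sub_cancel]
  have hq := Q_ap g v
  rw [hgv, Q_add, Q_add, hQv, hW w hw, Q_smul, hQx1, pl_smul_right, pl_add_right, pl_smul_right,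
    mem_perpSub.1 hx w hw, pl_comm Q v x, hxv, pl_comm Q v w, mem_perpSub.1 hvW w hw] at hq
  have hc : c = 0 := by
    rcases zero_or_one hF c with h | h
    · exact h
    · subst h; simp at hq
  rw [hgv, hc, zero_smul, add_zero, add_sub_cancel_left]
  exact hw

/-- A 2-group stabilises a totally singular subspace of dimension `m - 1`. -/
theorem exists_invariant_submax (hF : Fintype.card F = 2) (hQ : Q.polarBilin.Nondegenerate)
    (hι : Fintype.card ι = 2 * m) (hm : 1 ≤ m) {H : Subgroup (IsoGrp Q)} (hH : IsPGroup 2 H) :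
    ∃ W : Submodule F (ι → F), TS Q W ∧ Inv H W ∧ finrank F W = m - 1 := by
  suffices ∀ k ≤ m - 1, ∃ W : Submodule F (ι → F), TS Q W ∧ Inv H W ∧ finrank F W = k from this _ le_rfl
  intro k hk
  induction k with
  | zero =>
    refine ⟨⊥, fun x hx => ?_, fun g _ x hx => ?_, finrank_bot F _⟩
    · rw [(Submodule.mem_bot F).1 hx, map_zero]
    · rw [(Submodule.mem_bot F).1 hx, map_zero]; exact zero_mem _
  | succ k ih =>
    obtain ⟨W, h1, h2, h3⟩ := ih (by omega)
    obtain ⟨W', h4, h5, h6⟩ := exists_extend hF hQ hι hH h1 h2 (by omega)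
    exact ⟨W', h4, h5, by omega⟩

/-- The elements fixing `W` pointwise. -/
def fixW (W : Submodule F (ι → F)) : Subgroup (IsoGrp Q) where
  carrier := {g | ∀ x ∈ W, ap g x = x}
  one_mem' x _ := ap_one x
  mul_mem' {a b} ha hb x hx := by rw [ap_mul, hb x hx, ha x hx]
  inv_mem' {a} ha x hx := by conv_lhs => rw [← ha x hx, ap_inv_ap]

theorem pow_eight_of_fix (hF : Fintype.card F = 2) (hQ : Q.polarBilin.Nondegenerate)
    (hι : Fintype.card ι = 2 * m) {X : Submodule F (ι → F)} (hX : TS Q X) (hXm : finrank F X = m)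
    {W : Submodule F (ι → F)} (hW : TS Q W) (hWm : finrank F W + 1 = m) {g : IsoGrp Q}
    (hg : g ∈ fixW W) : g ^ 2 ^ 3 = 1 := by
  have hperp := finrank_perp hQ hι W
  obtain ⟨u, hu, huW, hQu⟩ := exists_singular_perp hQ hι hX hXm (W := W) (by omega)
  obtain ⟨n, hn, hQn⟩ : ∃ n ∈ perpSub Q W, Q n = 1 := by
    by_contra h
    push Not at h
    have hts : TS Q (perpSub Q W) := fun x hx => (zero_or_one hF _).resolve_right (h x hx)
    have := two_mul_finrank_le_of_isotropic hQ (perpSub Q W) fun x hx y hy => hts.polar hx hy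
    omega
  have hnU : n ∉ W ⊔ F ∙ u := fun h => by
    have := ts_sup_span hW hu hQu n h
    rw [hQn] at this; exact one_ne_zero this
  have hspan : W ⊔ F ∙ u ⊔ F ∙ n = perpSub Q W := by
    refine Submodule.eq_of_le_of_finrank_eq (sup_le (sup_le (le_perp hW) ?_) ?_) ?_
    · exact (Submodule.span_singleton_le_iff_mem _ _).2 hu
    · exact (Submodule.span_singleton_le_iff_mem _ _).2 hn
    · rw [finrank_sup_span hnU, finrank_sup_span huW]; omega
  have hdec : ∀ x ∈ perpSub Q W, ∃ w ∈ W, ∃ a b : F, x = w + a • u + b • n := by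
    intro x hx
    rw [← hspan] at hx
    obtain ⟨y, hy, z, hz, rfl⟩ := Submodule.mem_sup.1 hx
    obtain ⟨w, hw, y', hy', rfl⟩ := Submodule.mem_sup.1 hy
    obtain ⟨a, rfl⟩ := Submodule.mem_span_singleton.1 hy'
    obtain ⟨b, rfl⟩ := Submodule.mem_span_singleton.1 hz
    exact ⟨w, hw, a, b, rfl⟩
  have hun : polar ⇑Q u n = 1 := by
    refine (zero_or_one hF _).resolve_left fun h0 => ?_
    have := two_mul_finrank_le_of_isotropic hQ (perpSub Q W) fun x hx y hy => by
      obtain ⟨w, hw, a, b, rfl⟩ := hdec x hx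
      obtain ⟨w', hw', a', b', rfl⟩ := hdec y hy
      simp only [pl_add_left, pl_add_right, pl_smul_left, pl_smul_right, hW.polar hw hw',
        mem_perpSub.1 hu w hw, mem_perpSub.1 hn w hw, pl_comm Q u w', mem_perpSub.1 hu w' hw',
        pl_comm Q n w', mem_perpSub.1 hn w' hw', pl_self_zero hF, h0, pl_comm Q n u]
      ring
    omega
  have hQw : ∀ w ∈ W, ∀ a b : F, Q (w + a • u + b • n) = b * b + a * b := fun w hw a b => by
    rw [Q_add, Q_add, hW w hw, Q_smul, hQu, Q_smul, hQn, pl_smul_right, mem_perpSub.1 hu w hw, pl_smul_right,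
      pl_add_left, mem_perpSub.1 hn w hw, pl_smul_left, hun]
    ring
  have hperpI : ∀ x ∈ perpSub Q W, ap g x ∈ perpSub Q W := fun x hx => mem_perpSub.2 fun w hw => by
    rw [← hg w hw, polar_ap]; exact mem_perpSub.1 hx w hw
  obtain ⟨w₁, hw₁, a₁, b₁, hgn⟩ := hdec _ (hperpI n hn)
  have h1 : a₁ = 0 ∧ b₁ = 1 := by
    have h := Q_ap g n
    rw [hgn, hQw w₁ hw₁, hQn] at h
    rcases zero_or_one hF a₁ with rfl | rfl <;> rcases zero_or_one hF b₁ with rfl | rfl <;>
      simp [one_add_one_eq_two, two_eq_zero hF] at h ⊢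
  obtain ⟨w₂, hw₂, a₂, b₂, hgu⟩ := hdec _ (hperpI u hu)
  have h2 : a₂ = 1 := by
    have h := polar_ap g u n
    rw [hgn, hgu, h1.1, h1.2, zero_smul, add_zero, one_smul, hun] at h
    simp only [pl_add_left, pl_add_right, pl_smul_left, hW.polar hw₂ hw₁, mem_perpSub.1 hn w₂ hw₂,
      pl_comm Q u w₁, mem_perpSub.1 hu w₁ hw₁, pl_comm Q n w₁, mem_perpSub.1 hn w₁ hw₁, pl_self_zero hF, hun] at h
    linear_combination h
  -- the square acts trivially on the plane modulo `W`
  have hsq : ∀ x ∈ perpSub Q W, ap (g * g) x + x ∈ W := by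
    intro x hx
    obtain ⟨w, hw, a, b, rfl⟩ := hdec x hx
    have hn2 : ap (g * g) n + n = w₁ + w₁ := by
      rw [ap_mul, hgn, h1.1, h1.2, zero_smul, add_zero, one_smul, map_add, hg w₁ hw₁, hgn, h1.1, h1.2, zero_smul,
        add_zero, one_smul]
      rw [show w₁ + (w₁ + n) + n = w₁ + w₁ + (n + n) by abel, add_self_vec hF n, add_zero]
    have hu2 : ap (g * g) u + u = w₂ + w₂ + b₂ • w₁ := by
      rw [ap_mul, hgu, h2, one_smul, map_add, map_add, map_smul, hg w₂ hw₂, hgu, h2, one_smul, hgn, h1.1, h1.2,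
        zero_smul, add_zero, one_smul, smul_add]
      rw [show w₂ + (w₂ + u + b₂ • n) + (b₂ • w₁ + b₂ • n) + u = w₂ + w₂ + b₂ • w₁ + (u + u) + (b₂ • n + b₂ • n) by
        abel, add_self_vec hF u, add_self_vec hF (b₂ • n), add_zero, add_zero]
    have e : ap (g * g) (w + a • u + b • n) + (w + a • u + b • n) =
        (w + w) + a • (ap (g * g) u + u) + b • (ap (g * g) n + n) := by
      rw [map_add, map_add, map_smul, map_smul, ap_mul g g w, hg w hw, hg w hw, smul_add, smul_add]; abel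
    rw [e, hn2, hu2]
    exact add_mem (add_mem (add_mem hw hw) (W.smul_mem _ (add_mem (add_mem hw₂ hw₂) (W.smul_mem _ hw₁))))
      (W.smul_mem _ (add_mem hw₁ hw₁))
  have hg2 : g * g ∈ fixW W := mul_mem hg hg
  have hq : ∀ x, ap (g * g) (ap (g * g) (ap (g * g) (ap (g * g) x))) = x := by
    intro x
    have hd : ap (g * g) x + x ∈ perpSub Q W := mem_perpSub.2 fun w hw => by
      have := polar_ap (g * g) w x
      rw [hg2 w hw] at this
      rw [pl_add_right, this, ← two_mul, two_eq_zero hF, zero_mul]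
    have he := hsq _ hd
    have h0 := hg2 _ he
    rw [map_add] at he h0
    generalize g * g = s at *
    simp only [map_add] at h0
    have h1 := congrArg (ap s) h0
    simp only [map_add] at h1
    have e2 : ∀ c : ι → F, c + c = 0 := add_self_vec hF
    linear_combination (norm := module) h1 + h0 - e2 (ap s (ap s (ap s x))) + e2 (ap s x)
  refine ext_ap fun x => ?_
  have e8 : g ^ 2 ^ 3 = g * g * (g * g) * (g * g) * (g * g) := by
    rw [show (2:ℕ) ^ 3 = 8 by norm_num]; simp only [pow_succ, pow_zero, one_mul, mul_assoc]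
  rw [ap_one, e8, ap_mul (g * g * (g * g) * (g * g)), ap_mul (g * g * (g * g)), ap_mul (g * g) (g * g)]
  exact hq x

theorem mem_sylow_of_fix (hF : Fintype.card F = 2) (hQ : Q.polarBilin.Nondegenerate)
    (hι : Fintype.card ι = 2 * m) {X : Submodule F (ι → F)} (hX : TS Q X) (hXm : finrank F X = m)
    (S : Sylow 2 (IsoGrp Q)) {W : Submodule F (ι → F)} (hW : TS Q W) (hWm : finrank F W + 1 = m)
    (hI : Inv (S : Subgroup (IsoGrp Q)) W) {g : IsoGrp Q} (hg : g ∈ fixW W) :
    g ∈ (S : Subgroup (IsoGrp Q)) := by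
  have : Fact (Nat.Prime 2) := ⟨Nat.prime_two⟩
  have hK : IsPGroup 2 (fixW (Q := Q) W) := fun a => ⟨3, Subtype.ext (by
    simpa using pow_eight_of_fix hF hQ hι hX hXm hW hWm a.2)⟩
  have hnorm : (S : Subgroup (IsoGrp Q)) ≤ Subgroup.normalizer ((fixW (Q := Q) W : Subgroup (IsoGrp Q)) : Set (IsoGrp Q)) := by
    have key : ∀ s ∈ (S : Subgroup (IsoGrp Q)), ∀ a ∈ fixW W, s * a * s⁻¹ ∈ fixW W := fun s hs a ha x hx => by
      rw [ap_mul, ap_mul, ha _ (hI _ (inv_mem hs) x hx), ap_ap_inv]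
    intro s hs
    rw [Subgroup.mem_normalizer_iff]
    refine fun a => ⟨fun ha => key s hs a ha, fun ha => ?_⟩
    have := key s⁻¹ (inv_mem hs) _ ha
    simpa [mul_assoc] using this
  have hp := IsPGroup.to_sup_of_normal_right' S.2 hK hnorm
  have hle := S.3 hp le_sup_left
  exact hle.le (Subgroup.mem_sup_right hg)

/-- Two Sylow 2-subgroups meet non-trivially. -/
theorem sylow_inf_conj_ne_bot (hF : Fintype.card F = 2) (hQ : Q.polarBilin.Nondegenerate)
    (hι : Fintype.card ι = 2 * m) (hm : 1 ≤ m) {X : Submodule F (ι → F)} (hX : TS Q X) (hXm : finrank F X = m)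
    (S : Sylow 2 (IsoGrp Q)) (x : IsoGrp Q) :
    (S : Subgroup (IsoGrp Q)) ⊓ MulAut.conj x • (S : Subgroup (IsoGrp Q)) ≠ ⊥ := by
  obtain ⟨W, hW, hI, hWm⟩ := exists_invariant_submax hF hQ hι hm S.2
  have hW1 : finrank F W + 1 = m := by omega
  let W' := W.map (ap x)
  have hW'm : finrank F W' = finrank F W :=
    (Submodule.equivMapOfInjective (ap x) (fun a b e => ap_inj x e) W).finrank_eq.symm
  let T := perpSub Q (W ⊔ W')
  have hT : 2 ≤ finrank F T := by
    have h1 := finrank_perp hQ hι (W ⊔ W')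
    have h2 := Submodule.finrank_sup_add_finrank_inf_eq W W'
    show 2 ≤ finrank F (perpSub Q (W ⊔ W'))
    omega
  -- an element fixing both subspaces pointwise lies in both Sylow subgroups
  have hmem : ∀ g : IsoGrp Q, (∀ y ∈ W, ap g y = y) → (∀ y ∈ W', ap g y = y) →
      g ∈ (S : Subgroup (IsoGrp Q)) ⊓ MulAut.conj x • (S : Subgroup (IsoGrp Q)) := by
    intro g h1 h2
    refine Subgroup.mem_inf.2 ⟨mem_sylow_of_fix hF hQ hι hX hXm S hW hW1 hI h1, ?_⟩
    rw [Subgroup.mem_pointwise_smul_iff_inv_smul_mem, MulAut.smul_def, MulAut.conj_inv_apply]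
    refine mem_sylow_of_fix hF hQ hι hX hXm S hW hW1 hI fun y hy => ?_
    rw [ap_mul, ap_mul, h2 _ (Submodule.mem_map_of_mem hy), ap_inv_ap]
  intro hbot
  have htriv : ∀ g : IsoGrp Q, (∀ y ∈ W, ap g y = y) → (∀ y ∈ W', ap g y = y) → g = 1 := fun g h1 h2 => by
    have := hmem g h1 h2
    rwa [hbot, Subgroup.mem_bot] at this
  have hTW : ∀ t ∈ T, ∀ y ∈ W ⊔ W', polar ⇑Q t y = 0 := fun t ht y hy => by
    rw [pl_comm]; exact mem_perpSub.1 ht y hy
  by_cases hns : ∃ v ∈ T, Q v ≠ 0
  · obtain ⟨v, hv, hQv⟩ := hns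
    have hfix : ∀ y ∈ W ⊔ W', ap (refl Q v) y = y := fun y hy => refl_ap_of_orth Q (hTW v hv y hy)
    have h1 := htriv _ (fun y hy => hfix y (Submodule.mem_sup_left hy)) (fun y hy => hfix y (Submodule.mem_sup_right hy))
    have hv0 : v ≠ 0 := fun e => hQv (by rw [e, map_zero])
    obtain ⟨y, hy⟩ := exists_polar_ne hQ hv0
    have h2 := refl_ap Q v y
    rw [h1, ap_one, eq_comm, sub_eq_self, smul_eq_zero, mul_eq_zero, inv_eq_zero] at h2
    rcases h2 with (h2 | h2) | h2
    · exact hQv h2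
    · exact hy h2
    · exact hv0 h2
  · push Not at hns
    obtain ⟨a, ha, ha0⟩ := Submodule.exists_mem_ne_zero_of_ne_bot (p := T) (fun e => by rw [e, finrank_bot] at hT; omega)
    obtain ⟨b, hb, hba⟩ : ∃ b ∈ T, b ∉ F ∙ a := by
      by_contra h
      push Not at h
      have := Submodule.finrank_mono (show T ≤ F ∙ a from h)
      rw [finrank_span_singleton ha0] at this
      omega
    have hTS : TS Q T := hns
    have hab := hTS.polar ha hb
    have hQb := hns b hb
    have hfix : ∀ y ∈ W ⊔ W', ap (eich Q a b) y = y := fun y hy => by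
      rw [eich_ap (hns a ha) hab, hTW a ha y hy, hTW b hb y hy]; simp
    have h1 := htriv _ (fun y hy => hfix y (Submodule.mem_sup_left hy)) (fun y hy => hfix y (Submodule.mem_sup_right hy))
    obtain ⟨y, hy⟩ := exists_polar_ne hQ ha0
    have h2 := eich_ap (hns a ha) hab y
    rw [h1, ap_one, hQb, zero_mul, add_zero, eq_sub_iff_add_eq, add_right_inj] at h2
    refine hba (Submodule.mem_span_singleton.2 ⟨(polar ⇑Q a y)⁻¹ * polar ⇑Q b y, ?_⟩)
    rw [mul_smul, h2, smul_smul, inv_mul_cancel₀ hy, one_smul]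

end Cfsg.Agent.OrthPlusSylow
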